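import Groth.Agent.Lib.BigH028.Basic
import Groth.Agent.Lib.PullH25.Ext

/-!
Functoriality of restriction in big-site cohomology.
-/

set_option autoImplicit false
set_option linter.style.haveILetI false

universe u

open CategoryTheory CategoryTheory.Limits AlgebraicGeometry Opposite

namespace GrothLib.BigPullFun

open GrothLib.BigH028 GrothLib.PullH25

variable {K : Precoverage Scheme.{u}} {S T T' : Scheme.{u}}

theorem constSh_hom_ext {G : BigSite.Ab K S} {φ ψ : constSh K S ⟶ G}
    (h : ∀ U, φ.hom.app (op U) (one K S U) = ψ.hom.app (op U) (one K S U)) : φ = ψ := by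
  refine Sheaf.hom_ext (sheafify_hom_ext (QuotSh.J K S) _ _ G.property (NatTrans.ext (funext fun U => ?_)))
  refine AddCommGrpCat.ext fun m => ?_
  obtain ⟨m⟩ := m
  have hm : (⟨m⟩ : ULift.{u + 1} ℤ) = m • ⟨1⟩ := ULift.ext _ _ (by simp)
  rw [hm]
  change φ.hom.app U ((toSheafify (QuotSh.J K S) (constZ S)).app U (m • ⟨1⟩)) =
    ψ.hom.app U ((toSheafify (QuotSh.J K S) (constZ S)).app U (m • ⟨1⟩))
  rw [map_zsmul]
  exact (map_zsmul (φ.hom.app U).hom m _).trans
    ((congrArg (m • ·) (h U.unop)).trans (map_zsmul (ψ.hom.app U).hom m _).symm)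

theorem pull_id (F : BigSite.Ab K S) (n : ℕ) (x : BigSite.H K S F n) :
    Sheaf.H.map ((K.toGrothendieck.overMapPullbackId AddCommGrpCat.{u + 1} S).hom.app F) n
      (HRes.pull K (𝟙 S) F n x) = x := by
  have hc : (HRes.pullConst K (𝟙 S) (AddCommGrpCat.of (ULift.{u + 1} ℤ))).inv ≫
      (K.toGrothendieck.overMapPullbackId AddCommGrpCat.{u + 1} S).hom.app (constSh K S) = 𝟙 _ := by
    refine constSh_hom_ext fun U => ?_
    change ((K.toGrothendieck.overMapPullbackId AddCommGrpCat.{u + 1} S).hom.app (constSh K S)).hom.app (op U)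
      ((HRes.pullConst K (𝟙 S) (AddCommGrpCat.of (ULift.{u + 1} ℤ))).inv.hom.app (op U) (one K S U)) = one K S U
    rw [pullConst_inv_one]
    exact one_map _
  rw [Sheaf.H.map_apply, HRes.pull_apply, Abelian.Ext.comp_assoc_of_third_deg_zero,
    ← mapExactFunctor_natTrans (𝟭 (BigSite.Ab K S))
      (K.toGrothendieck.overMapPullbackId AddCommGrpCat.{u + 1} S).hom x,
    mapExactFunctor_id]
  refine Eq.trans (Abelian.Ext.comp_assoc_of_second_deg_zero _ _ _ _).symm ?_
  rw [Abelian.Ext.mk₀_comp_mk₀]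
  exact (congrArg (fun t => (Abelian.Ext.mk₀ t).comp x (zero_add n)) hc).trans (Abelian.Ext.mk₀_id_comp x)

theorem pull_comp (f : T ⟶ S) (g : T' ⟶ T) (F : BigSite.Ab K S) (n : ℕ) (x : BigSite.H K S F n) :
    HRes.pull K (g ≫ f) F n x =
      Sheaf.H.map ((K.toGrothendieck.overMapPullbackComp AddCommGrpCat.{u + 1} g f).hom.app F) n
        (HRes.pull K g ((BigSite.pullBig K f AddCommGrpCat.{u + 1}).obj F) n (HRes.pull K f F n x)) := by
  let α := (K.toGrothendieck.overMapPullbackComp AddCommGrpCat.{u + 1} g f).hom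
  let P := BigSite.pullBig K f AddCommGrpCat.{u + 1}
  let Q := BigSite.pullBig K g AddCommGrpCat.{u + 1}
  haveI : PreservesFiniteLimits (P ⋙ Q) := comp_preservesFiniteLimits P Q
  haveI : PreservesFiniteColimits (P ⋙ Q) := comp_preservesFiniteColimits P Q
  have hc : (HRes.pullConst K g (AddCommGrpCat.of (ULift.{u + 1} ℤ))).inv ≫
      Q.map (HRes.pullConst K f (AddCommGrpCat.of (ULift.{u + 1} ℤ))).inv ≫ α.app (constSh K S) =
      (HRes.pullConst K (g ≫ f) (AddCommGrpCat.of (ULift.{u + 1} ℤ))).inv := by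
    refine constSh_hom_ext fun U => ?_
    change (α.app (constSh K S)).hom.app (op U) ((Q.map (HRes.pullConst K f (AddCommGrpCat.of (ULift.{u + 1} ℤ))).inv).hom.app (op U)
      ((HRes.pullConst K g (AddCommGrpCat.of (ULift.{u + 1} ℤ))).inv.hom.app (op U) (one K T' U))) = _
    rw [pullConst_inv_one, pullConst_inv_one]
    change (α.app (constSh K S)).hom.app (op U) ((HRes.pullConst K f (AddCommGrpCat.of (ULift.{u + 1} ℤ))).inv.hom.app
      (op ((Over.map g).obj U)) (one K T ((Over.map g).obj U))) = _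
    rw [pullConst_inv_one]
    exact one_map _
  have h2 : HRes.pull K g (P.obj F) n (HRes.pull K f F n x) =
      (Abelian.Ext.mk₀ ((HRes.pullConst K g (AddCommGrpCat.of (ULift.{u + 1} ℤ))).inv ≫
        Q.map (HRes.pullConst K f (AddCommGrpCat.of (ULift.{u + 1} ℤ))).inv)).comp
        (x.mapExactFunctor (P ⋙ Q)) (zero_add n) := by
    rw [HRes.pull_apply, HRes.pull_apply, Abelian.Ext.mapExactFunctor_comp, Abelian.Ext.mapExactFunctor_mk₀,
      mapExactFunctor_mapExactFunctor P Q x]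
    exact ((Abelian.Ext.comp_assoc_of_second_deg_zero _ _ _ _).symm.trans
      (congrArg (fun t => Abelian.Ext.comp t _ (zero_add n)) (Abelian.Ext.mk₀_comp_mk₀ _ _)))
  rw [Sheaf.H.map_apply]
  refine Eq.trans ?_ (congrArg (fun t => Abelian.Ext.comp t (Abelian.Ext.mk₀ (α.app F)) (add_zero n)) h2).symm
  rw [Abelian.Ext.comp_assoc_of_third_deg_zero, ← mapExactFunctor_natTrans _ α x]
  refine Eq.trans ?_ (Abelian.Ext.comp_assoc_of_second_deg_zero _ _ _ _)
  rw [Abelian.Ext.mk₀_comp_mk₀, Category.assoc, hc]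
  rfl

end GrothLib.BigPullFun
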